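import Cfsg.Agent.Lib.McLCent.Checks
import Cfsg.Agent.Lib.McLCent.Cover
import Cfsg.Agent.Lib.ConwayOut.McL

/-!
# Involutions of the McLaughlin group

All involutions are conjugate into the involution `invol` of the monomial `M22`; its centraliser is a
non-split double cover of `A₈`: the bound `|C| ≤ 105 * 384` comes from the fixed points on the orbit of
the axis vector, and six explicit elements satisfy Carmichael's relations modulo the involution.
-/

set_option autoImplicit false

namespace Cfsg.Agent.Lib.McLCent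

open Cfsg Cfsg.Agent.Lib Cfsg.Agent.Lib.Leech
open Cfsg.Agent.Lib.ConwayOut (eltW okW appW eqW Atom Word axP pk pk_injective eltW_app
  eltW_append okW_append eltW_eq eltW_perm permElt permElt_eq)

/-- The setting. -/
noncomputable abbrev C : ConwayOut.Ctx D := ConwayOut.McL.ctx

/-- The group. -/
noncomputable abbrev H0 : Subgroup Co0 := MathieuFusion.McL.H

theorem finite_H0 : Finite H0 :=
  Nat.finite_of_card_ne_zero (by rw [MathieuFusion.McL.card_H]; norm_num)

theorem okW_of {w : Word} (h : D.fixW w = true) : okW w = true := ConwayOut.Ctx.okW_of_fixW h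

/-- A member given by a word. -/
noncomputable def el {w : Word} (h : D.fixW w = true) : H0 := ⟨eltW w, C.eltW_mem h⟩

theorem eltW_ne {u w : Word} (hu : okW u = true) (hw : okW w = true) (h : (!eqW u w) = true) :
    eltW u ≠ eltW w := by
  intro e
  have : eqW u w = true := by
    refine List.all_eq_true.2 fun i hi => ?_
    have hi' : i < 24 := List.mem_range.1 hi
    have hn : sqNorm (vec (eightE (Golay.pt i))) ≤ 64 := (sqNorm_eightE _).le
    rw [Nat.beq_eq, ← Golay.idx_pt hi', ← ConwayOut.pk_eightE, ← eltW_app hu _ hn,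
      ← eltW_app hw _ hn, e]
  rw [this] at h
  exact absurd h (by decide)

theorem invol_facts : D.spec.mem invol = true ∧ D.fixW tauW = true ∧
    Computation.mulP 24 5 invol invol = Golay.oneCode ∧ eltW tauW * eltW tauW = 1 ∧
      eltW tauW ≠ 1 := by
  have h := invol_check
  simp only [Bool.and_eq_true, Nat.beq_eq] at h
  obtain ⟨⟨⟨⟨h1, h2⟩, h3⟩, h4⟩, h5⟩ := h
  refine ⟨h1, h2, h3, ?_, ?_⟩
  · rw [← eltW_append]
    exact (eltW_eq (okW_append.2 ⟨okW_of h2, okW_of h2⟩) rfl h4).trans rfl
  · exact eltW_ne (okW_of h2) (w := []) rfl h5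

/-- The involution. -/
noncomputable def tau : H0 := el invol_facts.2.1

theorem coe_tau : (tau : Co0) = eltW tauW := rfl

theorem orderOf_tau : orderOf tau = 2 := by
  refine orderOf_eq_prime ?_ fun e => invol_facts.2.2.2.2 ?_
  · exact Subtype.ext (by rw [pow_two, Subgroup.coe_mul, coe_tau, invol_facts.2.2.2.1]; rfl)
  · rw [← coe_tau, e]; rfl

theorem invol_mem : Golay.gperm invol ∈ Spor.M22 := by
  have h := (OutTrivial.Spec.mem_spec (S := D.spec) (by decide) invol_facts.1).2
  exact (ConwayOut.mem_M22_iff (S := D.spec) rfl rfl _).2 h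

theorem invol_inM24 : Golay.inM24 invol = true := by
  have h := invol_facts.2.1
  simp only [ConwayOut.Cert.fixW, Bool.and_eq_true, tauW, okW, List.all_cons, List.all_nil, Atom.ok]
    at h
  exact h.1.1.1

theorem emb_invol : MathieuFusion.McL.emb ⟨Golay.gperm invol, invol_mem⟩ = tau := by
  apply Subtype.ext
  show permHom _ = eltW tauW
  have h2 := invol_facts.2.2.2.1
  rw [show tauW = [Atom.perm invol] from rfl, eltW_perm, permElt_eq invol_inM24] at h2 ⊢
  have : permHom ⟨Golay.gperm invol, Golay.gperm_mem_M24 invol_inM24⟩ *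
      permHom ⟨Golay.gperm invol, Golay.gperm_mem_M24 invol_inM24⟩ = 1 := by
    rw [← inv_eq_one, mul_inv_rev]; exact h2
  rw [inv_eq_of_mul_eq_one_right this]

/-! ### All involutions are conjugate -/

theorem sylow_mem {a : ℕ} (ha : a ∈ sylow) :
    MathieuFusion.memPts [23, 0] a = true ∧
      ∀ g ∈ MathieuFusion.McL.gens, Computation.mulP 24 5 g a ∈ sylow := by
  have h := sylow_check
  simp only [Bool.and_eq_true, List.all_eq_true, List.any_eq_true, Nat.beq_eq] at h
  obtain ⟨h1, h2⟩ := h.2 a ha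
  exact ⟨h1, fun g hg => by obtain ⟨b, hb, e⟩ := h2 g hg; rwa [e]⟩

theorem one_mem_sylow : Golay.oneCode ∈ sylow := by
  have h := sylow_check
  simp only [Bool.and_eq_true, List.any_eq_true, Nat.beq_eq] at h
  obtain ⟨b, hb, e⟩ := h.1
  rwa [e]

theorem okCode_memPts {a : ℕ} (h : MathieuFusion.memPts [23, 0] a = true) :
    Golay.okCode a = true := by
  simp only [MathieuFusion.memPts, Bool.and_eq_true] at h
  exact Golay.okCode_of_inM24 h.1

theorem gperm_mem_M22 {a : ℕ} (h : MathieuFusion.memPts [23, 0] a = true) :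
    Golay.gperm a ∈ Spor.M22 :=
  ⟨MathieuFusion.memPts_spec h (i := 23) (by decide) (by norm_num),
    (MathieuFusion.memPts_spec h (i := 0) (by decide) (by norm_num)).2⟩

theorem mem_S0 {σ : Spor.M22} (hσ : σ ∈ MathieuFusion.McL.S0) :
    ∃ a ∈ sylow, (σ : Equiv.Perm GolayPt) = Golay.gperm a := by
  obtain ⟨x, hx, hxe⟩ := Subgroup.mem_map.1 (Subgroup.mem_subgroupOf.1 hσ)
  rw [Computation.Rep.grp, MathieuFusion.McL.gens_eq] at hx
  have key : ∀ (y : Equiv.Perm GolayPt), y ∈ Subgroup.closure (Golay.gperm '' {s | s ∈ MathieuFusion.McL.gens}) →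
      ∀ a ∈ sylow, ∃ b ∈ sylow, y * Golay.gperm a = Golay.gperm b := by
    intro y hy
    induction hy using Subgroup.closure_induction with
    | mem z hz =>
      obtain ⟨g, hg, rfl⟩ := hz
      intro a ha
      refine ⟨_, (sylow_mem ha).2 g hg, (Golay.gperm_mul ?_ (okCode_memPts (sylow_mem ha).1)).symm⟩
      have h := List.all_eq_true.1 MathieuFusion.McL.gens_ok g hg
      exact okCode_memPts h
    | one => exact fun a ha => ⟨a, ha, one_mul _⟩
    | mul u v _ _ hu hv =>
      intro a ha
      obtain ⟨b, hb, e⟩ := hv a ha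
      obtain ⟨c, hc, e'⟩ := hu b hb
      exact ⟨c, hc, by rw [mul_assoc, e, e']⟩
    | inv u _ hu =>
      have hn : ∀ n : ℕ, ∀ a ∈ sylow, ∃ b ∈ sylow, u ^ n * Golay.gperm a = Golay.gperm b := by
        intro n
        induction n with
        | zero => exact fun a ha => ⟨a, ha, by rw [pow_zero, one_mul]⟩
        | succ n ih =>
          intro a ha
          obtain ⟨b, hb, e⟩ := hu a ha
          obtain ⟨c, hc, e'⟩ := ih b hb
          exact ⟨c, hc, by rw [pow_succ, mul_assoc, e, e']⟩
      have : u⁻¹ = u ^ (orderOf u - 1) := by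
        rw [inv_eq_iff_mul_eq_one, ← pow_succ', Nat.sub_add_cancel (orderOf_pos u),
          pow_orderOf_eq_one]
      rw [this]
      exact hn _
  have hy : Golay.indexHom.toMonoidHom x ∈
      Subgroup.closure (Golay.gperm '' {s | s ∈ MathieuFusion.McL.gens}) := by
    have h := Subgroup.mem_map_of_mem Golay.indexHom.toMonoidHom hx
    rw [MonoidHom.map_closure, Set.image_image] at h
    exact h
  obtain ⟨b, hb, e⟩ := key _ hy _ one_mem_sylow
  rw [Golay.gperm_oneCode, mul_one, hxe] at e
  exact ⟨b, hb, e⟩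

theorem card_S0 : Nat.card MathieuFusion.McL.S0 = 2 ^ 7 := by
  have hle : ((Computation.permRep 24 5 (by decide)).grp MathieuFusion.Cert.m22S_chain).map
      Golay.indexHom.toMonoidHom ≤ Spor.M22 := by
    rw [Computation.Rep.grp, MonoidHom.map_closure, Subgroup.closure_le]
    rintro _ ⟨_, ⟨s, hs, rfl⟩, rfl⟩
    exact MathieuFusion.McL.gperm_mem (MathieuFusion.McL.gens_eq ▸ hs)
  rw [MathieuFusion.McL.S0, Nat.card_congr (Subgroup.subgroupOfEquivOfLe hle).toEquiv,
    Subgroup.card_map_of_injective Golay.indexHom.injective,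
    MathieuFusion.R24.card_grp (MathieuFusion.R24.checkChain_of_checkClosure MathieuFusion.Cert.m22S_check)]
  decide +kernel

theorem conj_of_mem_S0 {σ : Spor.M22} (hσ : σ ∈ MathieuFusion.McL.S0) (h2 : σ ^ 2 = 1) (h1 : σ ≠ 1) :
    IsConj (⟨Golay.gperm invol, invol_mem⟩ : Spor.M22) σ := by
  obtain ⟨a, ha, hae⟩ := mem_S0 hσ
  obtain ⟨k, hk, hka⟩ := List.getElem_of_mem ha
  have h := List.all_eq_true.1 wit_check k (List.mem_range.2 hk)
  simp only [List.getD_eq_getElem _ _ hk, hka, Bool.or_eq_true, Bool.and_eq_true,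
    Bool.not_eq_true', Nat.beq_eq] at h
  have hoa := okCode_memPts (sylow_mem ha).1
  rcases h with (h | h) | ⟨hw, hwe⟩
  · exact absurd (Subtype.ext (hae.trans (by rw [h, Golay.gperm_oneCode]; rfl))) h1
  · exfalso
    have hsq : Golay.gperm (Computation.mulP 24 5 a a) = Golay.gperm Golay.oneCode := by
      rw [Golay.gperm_mul hoa hoa, Golay.gperm_oneCode, ← hae, ← pow_two]
      exact congrArg Subtype.val h2
    have hid : Computation.mulP 24 5 a a = Golay.oneCode := by
      rw [Computation.mulP, Computation.forceNat_eq, Computation.forceNat_eq, Golay.oneCode]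
      refine ConwayOut.packW_congr fun i hi => ?_
      have h' := congrArg (fun σ : Equiv.Perm GolayPt => Golay.idx (σ (Golay.pt i))) hsq
      simp only [Golay.gperm_mul hoa hoa, Golay.gperm_oneCode, Equiv.Perm.mul_apply,
        Equiv.Perm.one_apply, Golay.idx_gperm hoa, Golay.idx_pt hi] at h'
      exact h'
    rw [hid, Nat.beq_refl] at h
    exact absurd h (by decide)
  · refine isConj_iff.2 ⟨⟨_, gperm_mem_M22 hw⟩, ?_⟩
    rw [mul_inv_eq_iff_eq_mul]
    apply Subtype.ext
    rw [Subgroup.coe_mul, Subgroup.coe_mul, hae]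
    show Golay.gperm _ * Golay.gperm invol = Golay.gperm a * Golay.gperm _
    rw [← Golay.gperm_mul (okCode_memPts hw) (Golay.okCode_of_inM24 invol_inM24),
      ← Golay.gperm_mul hoa (okCode_memPts hw), hwe]

theorem conj_tau (u : H0) (hu : orderOf u = 2) : IsConj tau u := by
  have := finite_H0
  have : Fact (Nat.Prime 2) := ⟨Nat.prime_two⟩
  let P : Sylow 2 H0 := Sylow.ofCard (MathieuFusion.McL.S0.map MathieuFusion.McL.emb) (by
    rw [Subgroup.card_map_of_injective MathieuFusion.McL.emb_injective, card_S0,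
      ← MathieuFusion.McL.factorization_eq, Golay.card_spor_M22]
    congr 1
    rw [show (443520 : ℕ) = 2 ^ 7 * 3465 by norm_num, Nat.factorization_mul (by norm_num) (by norm_num),
      Finsupp.add_apply, Nat.factorization_eq_zero_of_not_dvd (show ¬ 2 ∣ 3465 by norm_num),
      Nat.prime_two.factorization_pow]
    simp)
  obtain ⟨R, hR⟩ := (IsPGroup.of_card (p := 2) (n := 1)
    (show Nat.card (Subgroup.zpowers u) = 2 ^ 1 by rw [Nat.card_zpowers, hu]; norm_num)).exists_le_sylow
  obtain ⟨g, hg⟩ := MulAction.exists_smul_eq H0 R P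
  have hm : g * u * g⁻¹ ∈ (P : Subgroup H0) := by
    rw [← hg, Sylow.coe_subgroup_smul]
    exact ⟨u, hR (Subgroup.mem_zpowers u), rfl⟩
  obtain ⟨σ, hσ, hσe⟩ := Subgroup.mem_map.1 (show g * u * g⁻¹ ∈ MathieuFusion.McL.S0.map MathieuFusion.McL.emb from hm)
  have hord : orderOf σ = 2 := by
    rw [← orderOf_injective _ MathieuFusion.McL.emb_injective σ, hσe]
    rw [show g * u * g⁻¹ = MulAut.conj g u from rfl, MulEquiv.orderOf_eq]
    exact hu
  have h := MathieuFusion.McL.emb.map_isConj (conj_of_mem_S0 hσ (by rw [← hord]; exact pow_orderOf_eq_one σ)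
    (fun e => by rw [e, orderOf_one] at hord; exact absurd hord (by norm_num)))
  rw [emb_invol, hσe] at h
  exact h.trans (isConj_iff.2 ⟨g⁻¹, by group⟩)

/-! ### The centraliser -/

theorem emb_fix (σ : Spor.M22) :
    ((MathieuFusion.McL.emb σ : H0) : Co0) • eightE none = eightE none := by
  show permHom _ • eightE none = eightE none
  rw [permHom_eightE]
  exact congrArg eightE σ.2.1.2

theorem pk_orbit_mem (g : H0) : pk ((g : Co0) • eightE none) ∈ D.tree.keys := by
  have := finite_H0
  set ax : leechLattice := eightE none with hax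
  have hG := ConwayOut.McLCert.okGen
  simp only [ConwayOut.Cert.okGen, Bool.and_eq_true, List.all_eq_true, List.mem_range, Nat.beq_eq] at hG
  obtain ⟨⟨⟨⟨⟨-, -⟩, -⟩, htree⟩, hinc⟩, hN⟩ := hG
  have hT := ConwayOut.McLCert.okTri
  simp only [ConwayOut.Cert.okTri, Bool.and_eq_true] at hT
  obtain ⟨⟨⟨⟨⟨⟨⟨⟨⟨⟨⟨⟨hX, hS⟩, ht⟩, -⟩, -⟩, -⟩, -⟩, -⟩, -⟩, -⟩, -⟩, -⟩, -⟩ := hT
  have horb : ∀ n ∈ D.tree.keys, ∃ g : H0, pk ((g : Co0) • ax) = n := by
    refine SporStruct.OrbitTree.MTree.check_sound htree (fun n => ∃ g : H0, pk ((g : Co0) • ax) = n)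
      ⟨1, by rw [OneMemClass.coe_one, one_smul, hax, ConwayOut.Ctx.enc_none]⟩ ?_
    rintro i hi n ⟨g, rfl⟩
    have key : ∀ {w : Word} (hw : D.fixW w = true),
        ∃ g' : H0, pk ((g' : Co0) • ax) = appW w (pk ((g : Co0) • ax)) := fun {w} hw =>
      ⟨el hw * g, by
        rw [Subgroup.coe_mul, mul_smul]
        exact eltW_app (okW_of hw) _ (ConwayOut.Ctx.norm_axis _ _)⟩
    simp only [List.mem_cons, List.not_mem_nil, or_false] at hi
    rcases hi with rfl | rfl | rfl
    · exact key hX
    · exact key hS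
    · exact key ht
  set O : Set leechLattice := MulAction.orbit H0 ax with hO
  have hOfin : O.Finite := Set.finite_range _
  have hsub : (D.tree.keys.toFinset : Set ℕ) ⊆ pk '' O := by
    intro n hn
    obtain ⟨g, hg⟩ := horb n (List.mem_toFinset.1 hn)
    exact ⟨_, ⟨g, rfl⟩, hg⟩
  have hcard : O.ncard ≤ 2025 := by
    have h1 : Nat.card Spor.M22 ≤ Nat.card (MulAction.stabilizer H0 ax) :=
      Nat.card_le_card_of_injective (fun σ => (⟨MathieuFusion.McL.emb σ, emb_fix σ⟩ : MulAction.stabilizer H0 ax))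
        fun a b hab => MathieuFusion.McL.emb_injective (congrArg Subtype.val hab)
    have h2 := (MulAction.stabilizer H0 ax).index_mul_card
    rw [MulAction.index_stabilizer, MathieuFusion.McL.card_H] at h2
    rw [Golay.card_spor_M22] at h1
    have h3 : O.ncard * 443520 ≤ 898128000 := h2 ▸ Nat.mul_le_mul le_rfl h1
    omega
  have heq : (D.tree.keys.toFinset : Set ℕ) = pk '' O := by
    refine Set.eq_of_subset_of_ncard_le hsub ?_ (hOfin.image _)
    rw [Set.ncard_coe_finset, List.toFinset_card_of_nodup (SporStruct.OrbitTree.incList_nodup hinc), hN]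
    exact (Set.ncard_image_le hOfin).trans hcard
  have : pk ((g : Co0) • ax) ∈ (D.tree.keys.toFinset : Set ℕ) := heq ▸ ⟨_, ⟨g, rfl⟩, rfl⟩
  exact List.mem_toFinset.1 (Finset.mem_coe.1 this)

theorem commute_of_mem {g : H0} (hg : g ∈ Subgroup.centralizer ({tau} : Set H0)) :
    (g : Co0) * eltW tauW = eltW tauW * (g : Co0) :=
  congrArg Subtype.val (Subgroup.mem_centralizer_iff.1 hg tau rfl).symm

theorem tau_fix_axis : eltW tauW • eightE none = eightE none := by
  rw [← coe_tau, ← emb_invol]; exact emb_fix _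

theorem card_centralizer_le : Nat.card (Subgroup.centralizer ({tau} : Set H0)) ≤ 40320 := by
  have := finite_H0
  set K := Subgroup.centralizer ({tau} : Set H0) with hK
  set ax : leechLattice := eightE none with hax
  have h1 : (MulAction.orbit K ax).ncard ≤ 105 := by
    let Y := (D.tree.keys.filter fun n => Nat.beq (appW tauW n) n).toFinset
    have hY : Y.card ≤ 105 := (List.toFinset_card_le _).trans fixed_count
    refine le_trans ?_ hY
    rw [← Set.ncard_coe_finset]
    refine Set.ncard_le_ncard_of_injOn pk ?_ ?_ Y.finite_toSet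
    · rintro _ ⟨g, rfl⟩
      show pk (((g : H0) : Co0) • ax) ∈ (Y : Set ℕ)
      simp only [Y, Finset.mem_coe, List.mem_toFinset, List.mem_filter, Nat.beq_eq]
      refine ⟨pk_orbit_mem g, ?_⟩
      rw [← eltW_app (okW_of invol_facts.2.1) _ (ConwayOut.Ctx.norm_axis _ _), ← mul_smul,
        ← commute_of_mem g.2, mul_smul, tau_fix_axis]
    · rintro _ ⟨g, rfl⟩ _ ⟨g', rfl⟩ h
      exact pk_injective (ConwayOut.Ctx.norm_axis _ _) (ConwayOut.Ctx.norm_axis _ _) h
  have h2 : Nat.card (MulAction.stabilizer K ax) ≤ 384 := by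
    have hmem : ∀ g : MulAction.stabilizer K ax, ∃ i : Fin centPerms.length,
        ∃ h : Golay.gperm centPerms[i] ∈ M24,
          (((g : K) : H0) : Co0) = permHom ⟨Golay.gperm centPerms[i], h⟩ := by
      intro g
      have hc := commute_of_mem (g : K).2
      rw [show tauW = [Atom.perm invol] from rfl, eltW_perm] at hc
      obtain ⟨a, ha, h, e⟩ := C.of_fixes cent_check invol_inM24 invol_inM24 ((g : K) : H0).2 g.2 hc
      obtain ⟨i, hi, rfl⟩ := List.getElem_of_mem ha
      exact ⟨⟨i, hi⟩, h, e⟩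
    choose f hf he using hmem
    refine (Nat.card_le_card_of_injective f fun a b hab => ?_).trans
      (by rw [Nat.card_fin, cent_length])
    refine Subtype.ext (Subtype.ext (Subtype.ext ((he a).trans (Eq.trans ?_ (he b).symm))))
    exact congrArg permHom (Subtype.ext (congrArg (fun i : Fin centPerms.length => Golay.gperm centPerms[i]) hab))
  rw [← (MulAction.stabilizer K ax).index_mul_card, MulAction.index_stabilizer]
  exact (Nat.mul_le_mul h1 h2).trans (by norm_num)

/-- The transported involution. -/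
noncomputable def invMcL : Spor.McL := MathieuFusion.McL.equiv tau

theorem orderOf_invMcL : orderOf invMcL = 2 := by
  rw [invMcL, MulEquiv.orderOf_eq, orderOf_tau]

theorem gen_facts {i : ℕ} (hi : i < 6) : ∃ h : D.fixW (genW i) = true,
    eltW (genW i) * eltW tauW = eltW tauW * eltW (genW i) ∧ eltW (genW i) ^ 3 = 1 := by
  have h := List.all_eq_true.1 gens_check i (List.mem_range.2 hi)
  simp only [Bool.and_eq_true] at h
  obtain ⟨⟨h1, h2⟩, h3⟩ := h
  have o1 := okW_of h1
  have o2 := okW_of invol_facts.2.1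
  refine ⟨h1, ?_, ?_⟩
  · rw [← eltW_append, ← eltW_append]
    exact eltW_eq (okW_append.2 ⟨o1, o2⟩) (okW_append.2 ⟨o2, o1⟩) h2
  · rw [pow_three', ← eltW_append, ← eltW_append]
    exact (eltW_eq (okW_append.2 ⟨okW_append.2 ⟨o1, o1⟩, o1⟩) rfl h3).trans rfl

theorem pair_facts {i j : ℕ} (hj : j < 6) (h : i < j) :
    (eltW (genW i) * eltW (genW j)) ^ 2 = eltW tauW := by
  obtain ⟨h1, -, -⟩ := gen_facts (h.trans hj)
  obtain ⟨h2, -, -⟩ := gen_facts hj
  have hp : pairOk i j = true := by
    have a0 := pairs_zero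
    have a1 := pairs_one
    have a2 := pairs_two
    have a3 := pairs_rest
    simp only [List.range', List.all_cons, List.all_nil, Bool.and_true, Bool.and_eq_true] at a0 a1 a2 a3
    interval_cases j <;> interval_cases i <;> simp_all
  have o : okW (genW i ++ genW j) = true := okW_append.2 ⟨okW_of h1, okW_of h2⟩
  have h := eltW_eq (okW_append.2 ⟨o, o⟩) (okW_of invol_facts.2.1) hp
  rwa [eltW_append, eltW_append, ← pow_two] at h

theorem centralizer_cover :
    IsNonsplitDoubleCover ↥(Subgroup.centralizer ({invMcL} : Set ↥Spor.McL))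
      ↥(alternatingGroup (Fin 8)) := by
  have := finite_H0
  have : Finite Spor.McL := Finite.of_equiv _ MathieuFusion.McL.equiv.toEquiv
  set K := Subgroup.centralizer ({invMcL} : Set ↥Spor.McL)
  have hcomm : ∀ {g : H0}, (g : Co0) * eltW tauW = eltW tauW * (g : Co0) →
      MathieuFusion.McL.equiv g ∈ K := fun {g} hg => by
    refine Subgroup.mem_centralizer_iff.2 fun y hy => ?_
    rw [Set.mem_singleton_iff.1 hy, invMcL, ← map_mul, ← map_mul]
    exact congrArg _ (Subtype.ext hg.symm)
  let x : ℕ → K := fun i => if h : i < 6 then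
    ⟨MathieuFusion.McL.equiv (el (gen_facts h).fst), hcomm (gen_facts h).snd.1⟩ else 1
  refine isNonsplitDoubleCover_alt8 ⟨invMcL, Subgroup.mem_centralizer_iff.2
    fun y hy => by rw [Set.mem_singleton_iff.1 hy]⟩ ?_ ?_ x ?_ ?_ ?_ ?_
  · rw [Subgroup.orderOf_mk]; exact orderOf_invMcL
  · exact fun g => Subtype.ext (Subgroup.mem_centralizer_iff.1 g.2 invMcL rfl).symm
  · intro i hi
    simp only [x, dif_pos hi]
    apply Subtype.ext
    rw [Subgroup.coe_pow, Subgroup.coe_one, ← map_pow, MulEquiv.map_eq_one_iff]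
    exact Subtype.ext (gen_facts hi).snd.2
  · intro e
    simp only [x, dif_pos (show 0 < 6 by norm_num)] at e
    have e' := (MulEquiv.map_eq_one_iff _).1 (congrArg Subtype.val e)
    exact eltW_ne (okW_of (gen_facts (show 0 < 6 by norm_num)).fst) (w := []) rfl gen_ne
      (congrArg Subtype.val e')
  · intro i hi j hj hij
    simp only [x, dif_pos hi, dif_pos hj]
    apply Subtype.ext
    rw [Subgroup.coe_pow, Subgroup.coe_mul, ← map_mul, ← map_pow]
    exact congrArg _ (Subtype.ext (pair_facts hj hij))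
  · refine le_trans (Nat.card_le_card_of_injective (fun k : K =>
      (⟨MathieuFusion.McL.equiv.symm k, ?_⟩ : Subgroup.centralizer ({tau} : Set H0))) ?_)
      card_centralizer_le
    · refine Subgroup.mem_centralizer_iff.2 fun y hy => MathieuFusion.McL.equiv.injective ?_
      rw [Set.mem_singleton_iff.1 hy, map_mul, map_mul, MulEquiv.apply_symm_apply]
      exact Subgroup.mem_centralizer_iff.1 k.2 invMcL rfl
    · exact fun a b hab => Subtype.ext (MathieuFusion.McL.equiv.symm.injective (congrArg Subtype.val hab))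

theorem isConj_of_involutions (x y : Spor.McL) (hx : orderOf x = 2) (hy : orderOf y = 2) :
    IsConj x y := by
  have key : ∀ z : Spor.McL, orderOf z = 2 → IsConj invMcL z := fun z hz => by
    have h := MathieuFusion.McL.equiv.toMonoidHom.map_isConj
      (conj_tau (MathieuFusion.McL.equiv.symm z) (by rw [MulEquiv.orderOf_eq, hz]))
    simpa [invMcL] using h
  exact (key x hx).symm.trans (key y hy)

end Cfsg.Agent.Lib.McLCent
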