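import Cfsg.Agent.Lib.McLCent.Data
import Cfsg.Agent.Lib.MathieuFusion.McL

/-!
# Kernel checks for the centraliser of an involution of the McLaughlin group
-/

set_option autoImplicit false
set_option maxRecDepth 20000

namespace Cfsg.Agent.Lib.McLCent

open Cfsg.Agent.Lib Cfsg.Agent.Lib.ConwayOut Cfsg.Agent.Lib.OutTrivial

/-- The data of the group. -/
abbrev D : ConwayOut.Cert := McLCert.data

/-- The word of the involution. -/
def tauW : Word := [.perm invol]

/-- The word of a generator. -/
def genW (i : ℕ) : Word := gens.getD i []

theorem invol_check : (D.spec.mem invol && D.fixW tauW &&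
    Nat.beq (Computation.mulP 24 5 invol invol) Golay.oneCode && eqW (tauW ++ tauW) [] &&
    !eqW tauW []) = true := by decide +kernel

theorem cent_check : searchOk D.spec invol invol centPerms levels = true := by decide +kernel

theorem cent_length : centPerms.length = 384 := by decide +kernel

theorem fixed_count :
    (D.tree.keys.filter fun n => Nat.beq (appW tauW n) n).length ≤ 105 := by decide +kernel

theorem gens_check : ((List.range 6).all fun i => D.fixW (genW i) &&
    eqW (genW i ++ tauW) (tauW ++ genW i) && eqW (genW i ++ genW i ++ genW i) []) = true := by
  decide +kernel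

theorem gen_ne : (!eqW (genW 0) []) = true := by decide +kernel

/-- The test for a pair of generators. -/
def pairOk (i j : ℕ) : Bool := eqW (genW i ++ genW j ++ (genW i ++ genW j)) tauW

theorem pairs_zero : ((List.range' 1 5).all (pairOk 0)) = true := by decide +kernel

theorem pairs_one : ((List.range' 2 4).all (pairOk 1)) = true := by decide +kernel

theorem pairs_two : ((List.range' 3 3).all (pairOk 2)) = true := by decide +kernel

theorem pairs_rest : (pairOk 3 4 && pairOk 3 5 && pairOk 4 5) = true := by decide +kernel

theorem sylow_check : (sylow.any (Nat.beq Golay.oneCode) && sylow.all fun a =>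
    MathieuFusion.memPts [23, 0] a && MathieuFusion.McL.gens.all fun g =>
      sylow.any (Nat.beq (Computation.mulP 24 5 g a))) = true := by decide +kernel

theorem wit_check : ((List.range sylow.length).all fun k =>
    let a := sylow.getD k 0
    Nat.beq a Golay.oneCode || !Nat.beq (Computation.mulP 24 5 a a) Golay.oneCode ||
      (MathieuFusion.memPts [23, 0] (wits.getD k 0) &&
        Nat.beq (Computation.mulP 24 5 (wits.getD k 0) invol)
          (Computation.mulP 24 5 a (wits.getD k 0)))) = true := by decide +kernel

end Cfsg.Agent.Lib.McLCent
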